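/-
Perfect groups with dihedral Sylow 2-subgroups: reduction of the Gorenstein–Walter theorem in the
form of statement S0483 to the case of simple groups.

Main results: `odd_of_isPerfect_of_local`, `klein_le_of_not_solvable`, `isSimpleGroup_of_coreFree`.
-/
import Cfsg.Agent.Lib.Transfer.DihedralFusion
import Cfsg.Agent.Lib.CharSimple.Basic
import Cfsg.Agent.Lib.Cores.Basic
import Cfsg.Agent.Lib.OddOrderTheorem.Basic

set_option autoImplicit false

namespace Cfsg.Agent.GWReduce

open Subgroup

universe u

/-- A subgroup of exponent two of a dihedral group has order at most four. -/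
theorem card_le_four_of_sq {m : ℕ} [NeZero m] (E : Subgroup (DihedralGroup m))
    (hsq : ∀ x ∈ E, x * x = 1) : Nat.card E ≤ 4 := by
  classical
  have h2 : Nat.card {i : ZMod m // i + i = 0} ≤ 2 := by
    rw [Nat.card_eq_fintype_card, Fintype.card_subtype]
    by_contra h
    obtain ⟨a, ha, b, hb, c, hc, hab, hac, hbc⟩ := Finset.two_lt_card.1 (not_le.1 h)
    simp only [Finset.mem_filter, Finset.mem_univ, true_and] at ha hb hc
    have key : ∀ i : ZMod m, i + i = 0 → i ≠ 0 → 2 * i.val = m := by
      intro i hi h0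
      have h1 : ((2 * i.val : ℕ) : ZMod m) = 0 := by
        push_cast; rw [ZMod.natCast_zmod_val, two_mul]; exact hi
      obtain ⟨t, ht⟩ := (ZMod.natCast_eq_zero_iff _ _).1 h1
      have hlt := ZMod.val_lt i
      have hpos : i.val ≠ 0 := fun e => h0 ((ZMod.val_eq_zero i).1 e)
      match t, ht with
      | 0, ht => omega
      | 1, ht => omega
      | t + 2, ht => nlinarith
    have uni : ∀ i j : ZMod m, i + i = 0 → j + j = 0 → i ≠ 0 → j ≠ 0 → i = j := fun i j hi hj hi0 hj0 =>
      ZMod.val_injective m (by have := key i hi hi0; have := key j hj hj0; omega)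
    by_cases ha0 : a = 0
    · exact hbc (uni b c hb hc (fun e => hab (ha0.trans e.symm)) (fun e => hac (ha0.trans e.symm)))
    · by_cases hb0 : b = 0
      · exact hac (uni a c ha hc ha0 (fun e => hbc (hb0.trans e.symm)))
      · exact hab (uni a b ha hb ha0 hb0)
  by_cases hs : ∃ j, DihedralGroup.sr j ∈ E
  · obtain ⟨j, hj⟩ := hs
    let f : Bool × {i : ZMod m // i + i = 0} → DihedralGroup m := fun p =>
      bif p.1 then .r p.2.1 else .sr (j + p.2.1)
    have hE : (E : Set (DihedralGroup m)) ⊆ Set.range f := by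
      have hr : ∀ i, DihedralGroup.r i ∈ E → i + i = 0 := fun i hi => by
        have := hsq _ hi
        rwa [DihedralGroup.r_mul_r, DihedralGroup.one_def, DihedralGroup.r.injEq] at this
      rintro (i | i) hi
      · exact ⟨(true, ⟨i, hr i hi⟩), rfl⟩
      · have h1 := hr _ (by simpa [DihedralGroup.sr_mul_sr] using E.mul_mem hj hi)
        exact ⟨(false, ⟨i - j, h1⟩), by simp [f]⟩
    calc Nat.card E ≤ Nat.card (Set.range f) := Nat.card_mono (Set.toFinite _) hE
      _ ≤ Nat.card (Bool × {i : ZMod m // i + i = 0}) := Finite.card_range_le f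
      _ ≤ 4 := by rw [Nat.card_prod, Nat.card_eq_fintype_card (α := Bool), Fintype.card_bool]; omega
  · let f : {i : ZMod m // i + i = 0} → DihedralGroup m := fun p => .r p.1
    have hE : (E : Set (DihedralGroup m)) ⊆ Set.range f := by
      rintro (i | i) hi
      · refine ⟨⟨i, ?_⟩, rfl⟩
        have := hsq _ hi
        rwa [DihedralGroup.r_mul_r, DihedralGroup.one_def, DihedralGroup.r.injEq] at this
      · exact absurd ⟨i, hi⟩ hs
    calc Nat.card E ≤ Nat.card (Set.range f) := Nat.card_mono (Set.toFinite _) hE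
      _ ≤ Nat.card {i : ZMod m // i + i = 0} := Finite.card_range_le f
      _ ≤ 4 := by omega

variable {G : Type u} [Group G] [Finite G]

/-- In a group with dihedral Sylow 2-subgroup an involution centralising a four group lies in it. -/
theorem mem_of_centralizes_klein (S : Sylow 2 G) {m : ℕ} (hm : m ≠ 0)
    (e : (S : Subgroup G) ≃* DihedralGroup m) {U : Subgroup G} (hU : IsKleinFour U) {c : G}
    (hc : c * c = 1) (hcU : c ∈ centralizer (U : Set G)) : c ∈ U := by
  haveI := Fact.mk Nat.prime_two
  haveI : NeZero m := ⟨hm⟩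
  by_contra hcn
  have hUsq : ∀ u ∈ U, u * u = 1 := fun u hu => by
    have h := Monoid.pow_exponent_eq_one (⟨u, hu⟩ : U)
    rw [hU.exponent_two, pow_two] at h
    exact congrArg Subtype.val h
  set E : Subgroup G := U ⊔ zpowers c with hE
  have hn : zpowers c ≤ normalizer (U : Set G) :=
    zpowers_le.2 (centralizer_le_normalizer _ hcU)
  have hcz : ∀ x ∈ zpowers c, x * x = 1 ∧ ∀ u ∈ U, u * x = x * u := by
    rintro _ ⟨i, rfl⟩
    refine ⟨?_, fun u hu => ((show Commute u c from mem_centralizer_iff.1 hcU u hu).zpow_right i).eq⟩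
    dsimp only
    rw [← (Commute.refl c).mul_zpow, hc, one_zpow]
  have hmem : ∀ x ∈ E, ∃ u ∈ U, ∃ v ∈ zpowers c, u * v = x := fun x hx => by
    rw [hE, ← SetLike.mem_coe, coe_mul_of_right_le_normalizer_left U _ hn] at hx
    exact Set.mem_mul.1 hx
  have hsq : ∀ x ∈ E, x * x = 1 := fun x hx => by
    obtain ⟨u, hu, v, hv, rfl⟩ := hmem x hx
    rw [show u * v * (u * v) = u * (v * u) * v by group, ← (hcz v hv).2 u hu,
      show u * (u * v) * v = (u * u) * (v * v) by group, hUsq u hu, (hcz v hv).1, one_mul]
  have hEp : IsPGroup 2 E := IsPGroup.iff_orderOf.2 fun ⟨x, hx⟩ => by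
    obtain ⟨k, -, hk⟩ := (Nat.dvd_prime_pow Nat.prime_two).1
      (show orderOf x ∣ 2 ^ 1 from orderOf_dvd_of_pow_eq_one (by rw [pow_one, pow_two]; exact hsq x hx))
    exact ⟨k, by rw [orderOf_mk, hk]⟩
  obtain ⟨T, hT⟩ := hEp.exists_le_sylow
  let i : E →* DihedralGroup m := ((T.equiv S).trans e).toMonoidHom.comp (inclusion hT)
  have hi : Function.Injective i := ((T.equiv S).trans e).injective.comp (inclusion_injective hT)
  have h4 : Nat.card i.range ≤ 4 := card_le_four_of_sq _ (by
    rintro _ ⟨x, rfl⟩
    rw [← map_mul, show x * x = 1 from Subtype.ext (hsq x x.2), map_one])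
  rw [← Nat.card_congr (MonoidHom.ofInjective hi).toEquiv] at h4
  have h5 : Nat.card U < Nat.card E :=
    lt_of_le_of_ne (Nat.le_of_dvd Nat.card_pos (card_dvd_of_le le_sup_left)) fun h =>
      hcn (by
        have : U = E := eq_of_le_of_card_ge le_sup_left h.ge
        rw [this]; exact mem_sup_right (mem_zpowers c))
  rw [hU.card_four] at h5
  omega

/-- A perfect group all whose 2-local elements of odd order centralise has odd order. -/
theorem odd_of_isPerfect_of_local [Group.IsPerfect G] (S : Sylow 2 G)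
    (hloc : ∀ R : Subgroup G, R ≤ (S : Subgroup G) → ∀ y ∈ normalizer (R : Set G),
      Nat.Coprime (orderOf y) 2 → y ∈ centralizer (R : Set G)) :
    Odd (Nat.card G) := by
  haveI := Fact.mk Nat.prime_two
  obtain ⟨P, N, hN, hcompl⟩ := Transfer.hasNormalPComplement_of_local S fun R hR _ => hloc R hR.1
  have hN' := hN
  haveI : Group.IsPerfect (G ⧸ N) := Group.IsPerfect.ofSurjective (QuotientGroup.mk'_surjective N)
  have hQ : IsPGroup 2 (G ⧸ N) := P.2.of_equiv hcompl.symm.QuotientMulEquiv.symm
  have hQ1 : Subsingleton (G ⧸ N) := by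
    by_contra h
    haveI := not_subsingleton_iff_nontrivial.1 h
    have := hQ.isNilpotent
    exact Group.IsPerfect.not_isSolvable (G ⧸ N) inferInstance
  have hP1 : Nat.card (P : Subgroup G) = 1 := by
    rw [← hcompl.symm.index_eq_card, index_eq_card]
    exact Nat.card_of_subsingleton 1
  rw [Nat.odd_iff, ← Nat.two_dvd_ne_zero]
  intro hd
  have := P.dvd_card_of_dvd_card hd
  rw [hP1] at this
  omega

/-- A nonsolvable perfect group with a Sylow 2-subgroup embedded in a dihedral group contains a four group. -/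
theorem exists_klein [Group.IsPerfect G] [Nontrivial G] {m a : ℕ} (hm : m = 2 ^ a)
    (hemb : ∀ R : Subgroup G, IsPGroup 2 R → ∃ f : R →* DihedralGroup m, Function.Injective f) :
    ∃ U : Subgroup G, IsKleinFour U := by
  haveI := Fact.mk Nat.prime_two
  by_contra h
  let S : Sylow 2 G := default
  have hodd : Odd (Nat.card G) := odd_of_isPerfect_of_local S fun R hR y hy hco => by
    obtain ⟨f, hf⟩ := hemb R (S.2.to_le hR)
    have e1 : R ≃* f.range := MonoidHom.ofInjective hf
    rcases Transfer.dihedral_subgroup_cases hm f.range with h1 | h1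
    · exact Transfer.centralizes_of_isPGroup_mulAut (Transfer.isPGroup_mulAut_of_equiv e1 h1) hy hco
    · exact absurd ⟨R, Transfer.isKleinFour_congr e1.symm h1⟩ h
  exact Group.IsPerfect.not_isSolvable G (OddOrderTheorem.solvable hodd)

end Cfsg.Agent.GWReduce
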