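/-
Perfect groups with dihedral Sylow 2-subgroups modulo their core are simple, so statement S0483
follows from the Gorenstein–Walter theorem for simple groups.

Main results: `DihedralGW`, `isSimpleGroup_of_coreFree`, `result_of_simple`.
-/
import Cfsg.Agent.Lib.GWReduce.Basic
import Cfsg.Agent.Lib.GLOrder.Basic
import Cfsg.Agent.Lib.CharApp.Burnside
import Cfsg.Prelude.Def_CaseTheorems

set_option autoImplicit false

namespace Cfsg.Agent.GWReduce

open Subgroup
open scoped commutatorElement

universe u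

/-- The Gorenstein–Walter theorem for simple groups with dihedral Sylow 2-subgroups. -/
def DihedralGW : Prop :=
  ∀ (G : Type u) [Group G] [Finite G], IsSimpleGroup G → ¬ IsMulCommutative G →
    ∀ (S : Sylow 2 G) (n : ℕ), 2 ≤ n → Nonempty ((S : Subgroup G) ≃* DihedralGroup n) →
      (∃ (F : Type) (_ : Field F) (_ : Fintype F), Odd (Fintype.card F) ∧
        Nonempty (G ≃* Matrix.ProjectiveSpecialLinearGroup (Fin 2) F)) ∨
      Nonempty (G ≃* alternatingGroup (Fin 7))

variable {G : Type u} [Group G] [Finite G]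

/-- A perfect group with dihedral Sylow 2-subgroup has no central involution. -/
theorem no_central_involution [Group.IsPerfect G] (S : Sylow 2 G) {m : ℕ} (hm : m ≠ 0)
    (e : (S : Subgroup G) ≃* DihedralGroup m) {z : G} (hz : z ∈ center G) (hzo : orderOf z = 2) :
    False := by
  haveI := Fact.mk Nat.prime_two
  have hz1 : z ≠ 1 := fun h => by rw [h, orderOf_one] at hzo; omega
  have hz2 : z * z = 1 := by rw [← pow_two, ← hzo, pow_orderOf_eq_one]
  have hodd : Odd (Nat.card G) := odd_of_isPerfect_of_local S fun R hR y hy hco => by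
    rcases Transfer.klein_or_isPGroup_mulAut S hm e hR with h1 | h1
    · exact Transfer.centralizes_of_isPGroup_mulAut h1 hy hco
    have hzR : z ∈ R := mem_of_centralizes_klein S hm e h1 hz2
      (center_le_centralizer _ hz)
    refine mem_centralizer_iff.2 fun u hu => ?_
    by_cases hu1 : u = 1
    · rw [hu1, one_mul, mul_one]
    by_cases huz : u = z
    · rw [huz]; exact (mem_center_iff.1 hz y).symm
    have huz1 : u * z ∈ R := R.mul_mem hu hzR
    have hcase : ∀ v ∈ R, v ≠ 1 → v ≠ z → v = u ∨ v = u * z := fun v hv hv1 hvz => by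
      by_cases hvu : v = u
      · exact Or.inl hvu
      have h := IsKleinFour.eq_mul_of_ne_all (x := (⟨u, hu⟩ : R)) (y := ⟨z, hzR⟩) (z := ⟨v, hv⟩)
        (fun h => hu1 (congrArg Subtype.val h)) (fun h => hz1 (congrArg Subtype.val h))
        (fun h => huz (congrArg Subtype.val h)) (fun h => hv1 (congrArg Subtype.val h))
        (fun h => hvu (congrArg Subtype.val h)) (fun h => hvz (congrArg Subtype.val h))
      exact Or.inr (congrArg Subtype.val h)
    have hzy : y * z * y⁻¹ = z := by rw [mem_center_iff.1 hz y, mul_inv_cancel_right]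
    have hv : y * u * y⁻¹ ∈ R := (mem_normalizer_iff.1 hy u).1 hu
    have h2 : Commute (y ^ 2) u := by
      have hyy : y * (y * u * y⁻¹) * y⁻¹ = u := by
        rcases hcase _ hv (fun h => hu1 (by rwa [conj_eq_one_iff] at h))
          (fun h => huz ((MulAut.conj y).injective (by simpa using h.trans hzy.symm))) with h | h
        · rw [h, h]
        · rw [h, show y * (u * z) * y⁻¹ = (y * u * y⁻¹) * (y * z * y⁻¹) by group, h, hzy, mul_assoc, hz2,
            mul_one]
      show y ^ 2 * u = u * y ^ 2
      rw [pow_two]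
      calc y * y * u = (y * (y * u * y⁻¹) * y⁻¹) * (y * y) := by group
        _ = u * (y * y) := by rw [hyy]
    obtain ⟨j, hj⟩ := (Nat.coprime_two_right.1 hco)
    have hy' : y = (y ^ 2) ^ (j + 1) := by
      rw [← pow_mul, show 2 * (j + 1) = orderOf y + 1 by omega, pow_add, pow_orderOf_eq_one, one_mul, pow_one]
    rw [hy']
    exact (h2.pow_left _).eq.symm
  exact (Nat.not_even_iff_odd.2 hodd) (even_iff_two_dvd.2 (hzo ▸ orderOf_dvd_natCard z))

/-- A perfect subgroup image inside a solvable group is trivial. -/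
theorem map_eq_one_of_isSolvable [Group.IsPerfect G] {A : Type*} [Group A] (f : G →* A)
    (hs : Group.IsSolvable A) (g : G) : f g = 1 := by
  haveI : Group.IsPerfect f.range := Group.IsPerfect.ofSurjective f.rangeRestrict_surjective
  by_contra h
  haveI : Nontrivial f.range :=
    (Subgroup.nontrivial_iff_ne_bot _).2 fun e => h (by
      have : f g ∈ f.range := ⟨g, rfl⟩
      rwa [e, mem_bot] at this)
  exact Group.IsPerfect.not_isSolvable f.range inferInstance

/-- A perfect core-free group with dihedral Sylow 2-subgroups is a nonabelian simple group. -/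
theorem isSimpleGroup_of_coreFree [Group.IsPerfect G] (S : Sylow 2 G) {m : ℕ} (hm : 2 ≤ m)
    (e : (S : Subgroup G) ≃* DihedralGroup m) (hO : Cfsg.pPrimeCore 2 G = ⊥) :
    IsSimpleGroup G ∧ ¬ IsMulCommutative G := by
  classical
  haveI := Fact.mk Nat.prime_two
  have hm0 : m ≠ 0 := by omega
  haveI : NeZero m := ⟨hm0⟩
  obtain ⟨a, ha⟩ := Transfer.exists_two_pow_of_dihedral S hm0 e
  haveI : Nontrivial G := by
    refine Finite.one_lt_card_iff_nontrivial.1 (lt_of_lt_of_le ?_ (card_le_card_group (S : Subgroup G)))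
    rw [Nat.card_congr e.toEquiv, DihedralGroup.nat_card]
    omega
  obtain ⟨N, ⟨hN, hN0⟩, hmin⟩ := (Set.toFinite {N : Subgroup G | N.Normal ∧ N ≠ ⊥}).exists_minimal
    ⟨⊤, inferInstance, top_ne_bot⟩
  haveI := hN
  haveI : Nontrivial N := (Subgroup.nontrivial_iff_ne_bot N).2 hN0
  obtain ⟨T, _, hTs, k, hk, ⟨φ⟩⟩ := CharSimple.exists_pi_simple (G := N) fun H hH => by
    by_cases h : H = ⊥
    · exact Or.inl h
    refine Or.inr (eq_top_iff.2 fun x _ => ?_)
    haveI := hH
    have hnor : (H.map N.subtype).Normal := Cores.map_subtype_normal_of_characteristic N H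
    have hle : N ≤ H.map N.subtype := hmin ⟨hnor, fun e =>
      h ((map_eq_bot_iff_of_injective H N.subtype_injective).1 e)⟩ (map_subtype_le H)
    obtain ⟨y, hy, hyx⟩ := hle x.2
    rwa [← Subtype.ext hyx]
  haveI : Finite T := Finite.of_injective _ ((φ.symm.injective).comp
    (Pi.mulSingle_injective (M := fun _ : Fin k => T) ⟨0, hk⟩))
  -- the abelian case
  have hTna : ¬ IsMulCommutative T := fun hTc => by
    haveI := hTc
    have hq : (Nat.card T).Prime := by
      letI : CommGroup T := { (inferInstance : Group T) with mul_comm := fun a b => hTc.is_comm.comm a b }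
      exact IsSimpleGroup.prime_card
    have hNcard : Nat.card N = Nat.card T ^ k := by
      rw [Nat.card_congr φ.toEquiv, Nat.card_fun, Nat.card_fin]
    have h2 : Nat.card T = 2 := by
      by_contra h2
      have : N ≤ Cfsg.pPrimeCore 2 G := Cores.le_pPrimeCore hN (by
        rw [hNcard]
        exact Nat.Coprime.pow_left _ ((Nat.coprime_primes hq Nat.prime_two).2 h2))
      rw [hO, le_bot_iff] at this
      exact hN0 this
    have hNp : IsPGroup 2 N := IsPGroup.of_card (n := k) (by rw [hNcard, h2])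
    have hNS : N ≤ (S : Subgroup G) := (Cores.le_pCore hN hNp).trans (Cores.pCore_le_sylow S)
    have hsol : Group.IsSolvable (MulAut N) := by
      rcases Transfer.klein_or_isPGroup_mulAut S hm0 e hNS with h | h
      · haveI := h.isNilpotent
        infer_instance
      · obtain ⟨i, j, hij⟩ : ∃ i j, Nat.card (MulAut N) = 2 ^ i * 3 ^ j := by
          have h6 := Transfer.card_mulAut_klein_dvd h
          have hle := Nat.le_of_dvd (by norm_num) h6
          interval_cases hc : Nat.card (MulAut N)
          · exact absurd h6 (by norm_num)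
          · exact ⟨0, 0, rfl⟩
          · exact ⟨1, 0, rfl⟩
          · exact ⟨0, 1, rfl⟩
          · exact absurd h6 (by norm_num)
          · exact absurd h6 (by norm_num)
          · exact ⟨1, 1, rfl⟩
        exact CharApp.isSolvable_of_card_eq_prime_pow_mul 2 3 Nat.prime_two Nat.prime_three _ _ rfl i j hij
    have hNc : N ≤ center G := fun x hx => mem_center_iff.2 fun g => by
      have h := congrArg (fun α : MulAut N => ((α ⟨x, hx⟩ : N) : G))
        (map_eq_one_of_isSolvable (MulAut.conjNormal : G →* MulAut N) hsol g)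
      simp only [MulAut.conjNormal_apply, MulAut.one_apply] at h
      exact mul_inv_eq_iff_eq_mul.1 h
    obtain ⟨z, hz⟩ := exists_prime_orderOf_dvd_card' (G := N) 2 (by
      rw [hNcard, h2]; exact dvd_pow_self 2 (by omega))
    exact no_central_involution S hm0 e (hNc z.2) (by rw [Subgroup.orderOf_coe]; exact hz)
  -- a four group in `T`
  have hTns : ¬ Group.IsSolvable T := fun h => hTna ⟨⟨IsSimpleGroup.comm_iff_isSolvable.2 h⟩⟩
  haveI : Group.IsPerfect T := ⟨by
    rcases IsSimpleGroup.eq_bot_or_eq_top_of_normal (commutator T) inferInstance with h | h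
    · exact absurd ⟨⟨fun a b => by
        have : ⁅a, b⁆ ∈ commutator T := commutator_mem_commutator (mem_top a) (mem_top b)
        rw [h, mem_bot] at this
        exact commutatorElement_eq_one_iff_mul_comm.1 this⟩⟩ hTna
    · exact h⟩
  let j : Fin k → (T →* G) := fun i =>
    N.subtype.comp (φ.symm.toMonoidHom.comp (MonoidHom.mulSingle (fun _ : Fin k => T) i))
  have hj : ∀ i, Function.Injective (j i) := fun i =>
    N.subtype_injective.comp (φ.symm.injective.comp (Pi.mulSingle_injective (M := fun _ : Fin k => T) i))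
  obtain ⟨U, hU⟩ := exists_klein (G := T) ha fun R hR => by
    obtain ⟨Q, hQ⟩ := (hR.map (j ⟨0, hk⟩)).exists_le_sylow
    let f : R →* Q := ((j ⟨0, hk⟩).comp R.subtype).codRestrict (Q : Subgroup G)
      fun x => hQ ⟨x, x.2, rfl⟩
    refine ⟨((Q.equiv S).trans e).toMonoidHom.comp f, ((Q.equiv S).trans e).injective.comp fun x y h => ?_⟩
    exact Subtype.ext (hj ⟨0, hk⟩ (show j ⟨0, hk⟩ x = j ⟨0, hk⟩ y from
      congrArg (fun q : (Q : Subgroup G) => (q : G)) h))
  have hk1 : k = 1 := by
    by_contra hne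
    have h01 : (⟨0, hk⟩ : Fin k) ≠ ⟨1, by omega⟩ := by simp [Fin.ext_iff]
    haveI : Nontrivial U := Finite.one_lt_card_iff_nontrivial.1 (by rw [hU.card_four]; norm_num)
    obtain ⟨c, hc⟩ := exists_ne (1 : U)
    have hcc : (c : T) * c = 1 := congrArg Subtype.val (IsKleinFour.mul_self c)
    have hmem : j ⟨1, by omega⟩ c ∈ U.map (j ⟨0, hk⟩) := mem_of_centralizes_klein S hm0 e
      (Transfer.isKleinFour_map (hj _) hU) (by rw [← map_mul, hcc, map_one]) (by
        rintro _ ⟨u, -, rfl⟩
        simp only [j, MonoidHom.comp_apply, MonoidHom.mulSingle_apply, coe_subtype,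
          MulEquiv.coe_toMonoidHom, ← Subgroup.coe_mul, ← map_mul]
        refine congrArg (fun x => ((φ.symm x : N) : G)) (funext fun l => ?_)
        simp only [Pi.mul_apply]
        by_cases hl : l = ⟨0, hk⟩
        · subst hl
          simp [Pi.mulSingle_eq_of_ne h01]
        · simp [Pi.mulSingle_eq_of_ne hl])
    obtain ⟨u, -, hu⟩ := hmem
    have h := congrFun (φ.symm.injective (Subtype.ext hu)) ⟨1, by omega⟩
    simp only [MonoidHom.mulSingle_apply, Pi.mulSingle_eq_same, Pi.mulSingle_eq_of_ne h01.symm] at h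
    exact hc (Subtype.ext h.symm)
  subst hk1
  have eN : N ≃* T := φ.trans (MulEquiv.piUnique fun _ : Fin 1 => T)
  haveI : IsSimpleGroup N := IsSimpleGroup.isSimpleGroup_of_surjective eN.symm.toMonoidHom eN.symm.surjective
  set V : Subgroup G := U.map (j ⟨0, hk⟩)
  have hV : IsKleinFour V := Transfer.isKleinFour_map (hj _) hU
  have hVN : V ≤ N := by rintro _ ⟨u, -, rfl⟩; exact (φ.symm _).2
  -- the centraliser of `N`
  have hC : centralizer (N : Set G) = ⊥ := by
    have hinf : ∀ x ∈ centralizer (N : Set G), x ∈ N → x = 1 := fun x hx hxN => by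
      by_contra h
      rcases IsSimpleGroup.eq_bot_or_eq_top_of_normal (center N) inferInstance with hb | hb
      · have : (⟨x, hxN⟩ : N) ∈ center N := mem_center_iff.2 fun y =>
          Subtype.ext (mem_centralizer_iff.1 hx y y.2)
        rw [hb, mem_bot] at this
        exact h (congrArg Subtype.val this)
      · refine hTna ⟨⟨fun a b => eN.symm.injective ?_⟩⟩
        rw [map_mul, map_mul]
        exact (mem_center_iff.1 (hb ▸ mem_top (eN.symm b)) (eN.symm a))
    have hodd : (Nat.card (centralizer (N : Set G))).Coprime 2 := by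
      refine ((Nat.Prime.coprime_iff_not_dvd Nat.prime_two).2 fun hd => ?_).symm
      obtain ⟨c, hc⟩ := exists_prime_orderOf_dvd_card' (G := centralizer (N : Set G)) 2 hd
      rw [← Subgroup.orderOf_coe] at hc
      have hcV : (c : G) ∈ V := mem_of_centralizes_klein S hm0 e hV
        (by rw [← pow_two, ← hc, pow_orderOf_eq_one]) (centralizer_le hVN c.2)
      rw [hinf _ c.2 (hVN hcV), orderOf_one] at hc
      omega
    have := Cores.le_pPrimeCore (inferInstance : (centralizer (N : Set G)).Normal) hodd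
    rwa [hO, le_bot_iff] at this
  -- the quotient is odd
  obtain ⟨P, hP⟩ := (IsPGroup.of_card (n := 2) (by rw [hV.card_four]; norm_num) : IsPGroup 2 V).exists_le_sylow
  have eP : (P : Subgroup G) ≃* DihedralGroup m := (P.equiv S).trans e
  let π := QuotientGroup.mk' N
  let Q : Sylow 2 (G ⧸ N) := P.mapSurjective (QuotientGroup.mk'_surjective N)
  have hQc : IsCyclic (Q : Subgroup (G ⧸ N)) := by
    obtain ⟨v, hvV, l, hvl⟩ : ∃ v, ∃ hv : v ∈ V, ∃ l, eP ⟨v, hP hv⟩ = .sr l := by
      by_contra h
      push Not at h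
      have hrot : ∀ v : V, ∃ i : ZMod m, i + i = 0 ∧ eP ⟨v, hP v.2⟩ = .r i := fun v => by
        rcases hx : eP ⟨v, hP v.2⟩ with i | i
        · refine ⟨i, ?_, rfl⟩
          have h1 : (⟨v, hP v.2⟩ : (P : Subgroup G)) * ⟨v, hP v.2⟩ = 1 :=
            Subtype.ext (show (v : G) * v = 1 from congrArg (fun w : V => (w : G)) (IsKleinFour.mul_self v))
          have h2 := congrArg eP h1
          rwa [map_mul, map_one, hx, DihedralGroup.r_mul_r, DihedralGroup.one_def, DihedralGroup.r.injEq] at h2
        · exact absurd hx (h v v.2 i)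
      choose f hf hfe using hrot
      have h4 := Nat.card_le_card_of_injective (fun v => (⟨f v, hf v⟩ : {i : ZMod m // i + i = 0}))
        fun x y hxy => by
          have h1 : f x = f y := congrArg Subtype.val hxy
          have h2 : (⟨x, hP x.2⟩ : (P : Subgroup G)) = ⟨y, hP y.2⟩ := eP.injective (by rw [hfe, hfe, h1])
          exact Subtype.ext (congrArg (fun w : (P : Subgroup G) => (w : G)) h2)
      rw [hV.card_four] at h4
      have h2 : Nat.card {i : ZMod m // i + i = 0} ≤ 2 := by
        rw [ha]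
        rcases a with _ | a
        · exact le_trans (Finite.card_subtype_le _) (by simp)
        · refine le_trans (Nat.card_le_card_of_injective
            (fun i => (decide ((i : ZMod (2 ^ (a + 1))) = 0))) fun x y hxy => ?_) (by simp)
          rcases Transfer.zmod_add_self_eq_zero x.2 with hx | hx <;>
            rcases Transfer.zmod_add_self_eq_zero y.2 with hy | hy <;> apply Subtype.ext <;>
            simp_all
      omega
    refine isCyclic_iff_exists_zpowers_eq_top.2 ⟨⟨π (eP.symm (.r 1) : G), ?_⟩, eq_top_iff.2 fun x _ => ?_⟩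
    · exact ⟨_, (eP.symm (.r 1)).2, rfl⟩
    obtain ⟨y, hy, hyx⟩ := x.2
    have hr : ∀ i : ZMod m, eP.symm (.r i) = eP.symm (.r 1) ^ i.val := fun i => by
      rw [← map_pow, DihedralGroup.r_one_pow, ZMod.natCast_zmod_val]
    rcases hc : eP ⟨y, hy⟩ with i | i
    · refine mem_zpowers_iff.2 ⟨(i.val : ℤ), Subtype.ext ?_⟩
      have : (⟨y, hy⟩ : (P : Subgroup G)) = eP.symm (.r 1) ^ i.val := by rw [← hr, ← hc, eP.symm_apply_apply]
      rw [← hyx, zpow_natCast, SubmonoidClass.coe_pow, ← map_pow]
      exact congrArg (fun z : (P : Subgroup G) => π z) this.symm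
    · refine mem_zpowers_iff.2 ⟨((i - l).val : ℤ), Subtype.ext ?_⟩
      have : (⟨y, hy⟩ : (P : Subgroup G)) = ⟨v, hP hvV⟩ * eP.symm (.r 1) ^ (i - l).val := eP.injective (by
        rw [map_mul, ← hr, eP.apply_symm_apply, hvl, hc, DihedralGroup.sr_mul_r, add_sub_cancel])
      have h1 : π y = π (v * ((eP.symm (.r 1) ^ (i - l).val : (P : Subgroup G)) : G)) :=
        congrArg (fun z : (P : Subgroup G) => π z) this
      rw [map_mul, show π v = 1 from (QuotientGroup.eq_one_iff v).2 (hVN hvV), one_mul] at h1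
      rw [← hyx, zpow_natCast, SubmonoidClass.coe_pow, ← map_pow]
      exact h1.symm
  haveI : Group.IsPerfect (G ⧸ N) := Group.IsPerfect.ofSurjective (QuotientGroup.mk'_surjective N)
  have hodd : Odd (Nat.card (G ⧸ N)) := odd_of_isPerfect_of_local Q fun R hR y hy hco => by
    haveI : IsCyclic R := isCyclic_of_injective (inclusion hR) (inclusion_injective hR)
    exact Transfer.centralizes_of_isPGroup_mulAut
      (Transfer.isPGroup_mulAut_of_isCyclic (Q.2.to_le hR)) hy hco
  have htop : N = ⊤ := by
    by_contra h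
    haveI : Nontrivial (G ⧸ N) := QuotientGroup.nontrivial_iff.2 h
    exact Group.IsPerfect.not_isSolvable (G ⧸ N) (OddOrderTheorem.solvable hodd)
  let eG : G ≃* T := (Subgroup.topEquiv.symm.trans (MulEquiv.subgroupCongr htop.symm)).trans eN
  exact ⟨IsSimpleGroup.isSimpleGroup_of_surjective eG.symm.toMonoidHom eG.symm.surjective,
    fun h => hTna ⟨⟨fun a b => eG.symm.injective (by rw [map_mul, map_mul]; exact h.is_comm.comm _ _)⟩⟩⟩

/-- Statement S0483 from the Gorenstein–Walter theorem for simple groups. -/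
theorem result_of_simple (hGW : DihedralGW.{u}) {X : Type u} [Group X] [Finite X] [Group.IsPerfect X]
    (S : Sylow 2 X) (n : ℕ) (hn : 2 ≤ n) (hS : Nonempty ((S : Subgroup X) ≃* DihedralGroup n)) :
    (∃ (F : Type) (_ : Field F) (_ : Fintype F), Odd (Fintype.card F) ∧ 3 < Fintype.card F ∧
        Nonempty (X ⧸ Cfsg.oddCore X ≃* Matrix.ProjectiveSpecialLinearGroup (Fin 2) F)) ∨
      Nonempty (X ⧸ Cfsg.oddCore X ≃* alternatingGroup (Fin 7)) := by
  haveI := Fact.mk Nat.prime_two
  obtain ⟨e⟩ := hS
  set π := QuotientGroup.mk' (Cfsg.oddCore X) with hπ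
  let Sb : Sylow 2 (X ⧸ Cfsg.oddCore X) := S.mapSurjective (QuotientGroup.mk'_surjective _)
  let f : (S : Subgroup X) →* (Sb : Subgroup (X ⧸ Cfsg.oddCore X)) :=
    (π.comp (S : Subgroup X).subtype).codRestrict _ fun x => ⟨x, x.2, rfl⟩
  have hf : Function.Bijective f := by
    refine ⟨(injective_iff_map_eq_one f).2 fun x hx => ?_, fun y => ?_⟩
    · have hxc : (x : X) ∈ Cfsg.oddCore X := (QuotientGroup.eq_one_iff _).1 (congrArg Subtype.val hx)
      obtain ⟨i, hi⟩ := IsPGroup.iff_orderOf.1 S.2 x
      have h1 : orderOf (x : X) ∣ Nat.card (Cfsg.oddCore X) := orderOf_dvd_natCard _ hxc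
      rw [Subgroup.orderOf_coe, hi] at h1
      have h2 : 2 ^ i = 1 := Nat.eq_one_of_dvd_coprimes
        (Nat.Coprime.pow_right i (Cores.coprime_card_pPrimeCore (G := X) 2)) h1 dvd_rfl
      exact orderOf_eq_one_iff.1 (hi.trans h2)
    · obtain ⟨x, hx, hxy⟩ := y.2
      exact ⟨⟨x, hx⟩, Subtype.ext hxy⟩
  haveI : Group.IsPerfect (X ⧸ Cfsg.oddCore X) := Group.IsPerfect.ofSurjective (QuotientGroup.mk'_surjective _)
  have eb : (Sb : Subgroup (X ⧸ Cfsg.oddCore X)) ≃* DihedralGroup n := (MulEquiv.ofBijective f hf).symm.trans e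
  obtain ⟨hs, hna⟩ := isSimpleGroup_of_coreFree Sb hn eb (Cores.pPrimeCore_quotient_self 2)
  rcases hGW _ hs hna Sb n hn ⟨eb⟩ with ⟨F, hF1, hF2, hodd, ⟨g⟩⟩ | h
  · refine Or.inl ⟨F, hF1, hF2, hodd, ?_, ⟨g⟩⟩
    by_contra h3
    have h1 : 1 < Fintype.card F := Fintype.one_lt_card
    have hc : Fintype.card F = 3 := by obtain ⟨k, hk⟩ := hodd; omega
    have hsl : Group.IsSolvable (Matrix.SpecialLinearGroup (Fin 2) F) := by
      refine CharApp.isSolvable_of_card_eq_prime_pow_mul 2 3 Nat.prime_two Nat.prime_three _ _ rfl 3 1 ?_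
      rw [GLOrder.card_SL, Nat.card_eq_fintype_card, hc]
      rfl
    have hpsl : Group.IsSolvable (Matrix.ProjectiveSpecialLinearGroup (Fin 2) F) :=
      Group.isSolvable_of_surjective (f := QuotientGroup.mk' _) (QuotientGroup.mk'_surjective _)
    have : Group.IsSolvable (X ⧸ Cfsg.oddCore X) := Group.isSolvable_of_surjective (f := g.symm.toMonoidHom) g.symm.surjective
    exact hna ⟨⟨IsSimpleGroup.comm_iff_isSolvable.2 this⟩⟩
  · exact Or.inr h

end Cfsg.Agent.GWReduce
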