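/-
Simple groups with dihedral Sylow 2-subgroups in which an involution centralizer lies properly in a
subgroup without components (statement S3287), given the Gorenstein–Walter theorem for simple groups.

Main results: `centralizer_isCoatom`, `result_constrained`.
-/
import Cfsg.Agent.Lib.GWReduce.Main
import Cfsg.Agent.Lib.PSL2.Dihedral
import Cfsg.Agent.Lib.PSL2.Centralizers
import Cfsg.Agent.Lib.Components.BBalance
import Cfsg.Agent.S0494
import Cfsg.Agent.S0495
import Cfsg.Agent.S0249

set_option autoImplicit false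

namespace Cfsg.Agent.GWReduce

open Subgroup
open scoped commutatorElement

universe u

/-- For odd `q > 9` involution centralizers of `PSL₂(q)` are maximal. -/
theorem centralizer_isCoatom {F : Type*} [Field F] [Finite F] (hodd : Odd (Nat.card F))
    (h9 : 9 < Nat.card F) {t : PSL2.PSL2 F} (ht : orderOf t = 2) :
    IsCoatom (centralizer ({t} : Set (PSL2.PSL2 F))) := by
  obtain ⟨k, hk⟩ := hodd
  have hd : Nat.gcd 2 (Nat.card F - 1) = 2 :=
    Nat.gcd_eq_left ⟨k, by omega⟩
  obtain ⟨n, hn2, hn, hside, hC⟩ : ∃ n, 3 ≤ n ∧ Even n ∧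
      (n = (Nat.card F - 1) / Nat.gcd 2 (Nat.card F - 1) ∨ n = (Nat.card F + 1) / Nat.gcd 2 (Nat.card F - 1)) ∧
      ∀ x : PSL2.PSL2 F, orderOf x = 2 → Nat.card (centralizer ({x} : Set (PSL2.PSL2 F))) = 2 * n := by
    rw [hd]
    rcases Nat.even_or_odd k with ⟨j, hj⟩ | ⟨j, hj⟩
    · refine ⟨k, by omega, ⟨j, hj⟩, Or.inl (by omega), fun x hx => ?_⟩
      rw [(PSL2.card_centralizer_involution ⟨k, hk⟩ hx).1 (by omega)]
      omega
    · refine ⟨k + 1, by omega, ⟨j + 1, by omega⟩, Or.inr (by omega), fun x hx => ?_⟩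
      rw [(PSL2.card_centralizer_involution ⟨k, hk⟩ hx).2 (by omega)]
      omega
  obtain ⟨H, ⟨e⟩⟩ := PSL2.exists_dihedral_sub (F := F) (n := n) (le_trans (by norm_num) hn2)
    (hside.imp dvd_of_eq dvd_of_eq)
  have hco := PSL2.dihedral_isCoatom hn2 hside (by omega) (by omega) (by omega) (fun h11 => by
    rw [hd] at hside
    obtain ⟨i, hi⟩ := hn
    omega) e
  haveI : NeZero n := ⟨by omega⟩
  obtain ⟨i, hi⟩ := hn
  set x : PSL2.PSL2 F := ((e.symm (DihedralGroup.r (i : ZMod n)) : H) : PSL2.PSL2 F) with hxdef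
  have hii : (i : ZMod n) + (i : ZMod n) = 0 := by
    rw [← Nat.cast_add, ← hi, ZMod.natCast_self]
  have hx : orderOf x = 2 := by
    rw [hxdef, Subgroup.orderOf_coe, MulEquiv.orderOf_eq]
    refine orderOf_eq_prime (by rw [pow_two, DihedralGroup.r_mul_r, hii, DihedralGroup.one_def]) fun h => ?_
    rw [DihedralGroup.one_def, DihedralGroup.r.injEq, ZMod.natCast_eq_zero_iff] at h
    have := Nat.le_of_dvd (by omega) h
    omega
  have hle : H ≤ centralizer ({x} : Set (PSL2.PSL2 F)) := fun y hy => mem_centralizer_singleton_iff.2 (by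
    have key : ∀ d : DihedralGroup n, d * DihedralGroup.r (i : ZMod n) = DihedralGroup.r (i : ZMod n) * d := by
      rintro (j | j)
      · rw [DihedralGroup.r_mul_r, DihedralGroup.r_mul_r, add_comm]
      · rw [DihedralGroup.sr_mul_r, DihedralGroup.r_mul_sr, sub_eq_add_neg, neg_eq_of_add_eq_zero_right hii]
    have h1 : (⟨y, hy⟩ : H) * e.symm (DihedralGroup.r (i : ZMod n)) =
        e.symm (DihedralGroup.r (i : ZMod n)) * ⟨y, hy⟩ := e.injective (by simp [key])
    exact congrArg Subtype.val h1)
  have hHx : centralizer ({x} : Set (PSL2.PSL2 F)) = H := (eq_of_le_of_card_ge hle (by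
    rw [hC x hx, Nat.card_congr e.toEquiv, DihedralGroup.nat_card])).symm
  obtain ⟨g, hg⟩ := isConj_iff.1 (PSL2.involution_isConj ⟨k, hk⟩ hx ht)
  have hct : centralizer ({t} : Set (PSL2.PSL2 F)) = H.map (MulAut.conj g).toMonoidHom := by
    rw [← hHx]
    refine le_antisymm ?_ ?_
    · intro y hy
      refine ⟨g⁻¹ * y * g, ?_, by simp [mul_assoc]⟩
      have h := mem_centralizer_iff.1 hy t rfl
      rw [← hg] at h
      have h' : x * (g⁻¹ * y * g) = g⁻¹ * y * g * x := by
        calc x * (g⁻¹ * y * g) = g⁻¹ * (g * x * g⁻¹ * y) * g := by group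
          _ = g⁻¹ * (y * (g * x * g⁻¹)) * g := by rw [h]
          _ = g⁻¹ * y * g * x := by group
      exact SetLike.mem_coe.2 (mem_centralizer_iff.2 fun k hk => by
        obtain rfl := Set.mem_singleton_iff.1 hk; exact h')
    · rintro _ ⟨y, hy, rfl⟩
      refine mem_centralizer_iff.2 fun k hk => ?_
      obtain rfl := Set.mem_singleton_iff.1 hk
      rw [← hg]
      have h := mem_centralizer_iff.1 hy x rfl
      show g * x * g⁻¹ * (g * y * g⁻¹) = g * y * g⁻¹ * (g * x * g⁻¹)
      calc g * x * g⁻¹ * (g * y * g⁻¹) = g * (x * y) * g⁻¹ := by group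
        _ = g * (y * x) * g⁻¹ := by rw [h]
        _ = g * y * g⁻¹ * (g * x * g⁻¹) := by group
  rw [hct]
  exact ((MulAut.conj g).mapSubgroup.isCoatom_iff H).2 hco

/-- Statement S3287 from the Gorenstein–Walter theorem for simple groups. -/
theorem result_constrained (hGW : DihedralGW.{u}) {G : Type u} [Group G] [Finite G] [IsSimpleGroup G]
    (S : Sylow 2 G) (m : ℕ) (eS : ↥(S : Subgroup G) ≃* DihedralGroup m) (t : G) (ht : orderOf t = 2)
    (K : Subgroup G) (hlt : Subgroup.centralizer ({t} : Set G) < K)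
    (hK : Cfsg.generalizedFittingSubgroup ↥K = Cfsg.fittingSubgroup ↥K) :
    Nonempty (G ≃* ↥(alternatingGroup (Fin 5))) ∨ Nonempty (G ≃* ↥(alternatingGroup (Fin 7))) ∨
      (∃ (F : Type) (_ : Field F) (_ : Fintype F), Fintype.card F = 2 ∧
        Nonempty (G ≃* Matrix.ProjectiveSpecialLinearGroup (Fin 3) F)) ∨
      (∃ (F : Type) (_ : Field F) (_ : Fintype F), Fintype.card F = 9 ∧
        Nonempty (G ≃* Matrix.ProjectiveSpecialLinearGroup (Fin 2) F)) := by
  haveI := Fact.mk Nat.prime_two
  have hna : ¬ IsMulCommutative G := fun h => (not_le_of_gt hlt) (fun y _ => mem_centralizer_singleton_iff.2 (h.is_comm.comm y t))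
  haveI : Group.IsPerfect G := ⟨by
    rcases IsSimpleGroup.eq_bot_or_eq_top_of_normal (commutator G) inferInstance with h | h
    · exact absurd ⟨⟨fun a b => by
        have : ⁅a, b⁆ ∈ commutator G := commutator_mem_commutator (mem_top a) (mem_top b)
        rw [h, mem_bot] at this
        exact commutatorElement_eq_one_iff_mul_comm.1 this⟩⟩ hna
    · exact h⟩
  have hm : 2 ≤ m := by
    rcases m with _ | _ | m
    · have h := Nat.card_congr eS.toEquiv
      rw [DihedralGroup.nat_card] at h
      exact absurd h (by have := Nat.card_pos (α := ↥(S : Subgroup G)); omega)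
    · exfalso
      have hodd : Odd (Nat.card G) := odd_of_isPerfect_of_local S fun R hR y hy hco => by
        haveI : IsCyclic (S : Subgroup G) := isCyclic_of_prime_card (p := 2) (by
          rw [Nat.card_congr eS.toEquiv, DihedralGroup.nat_card])
        haveI : IsCyclic R := isCyclic_of_injective (inclusion hR) (inclusion_injective hR)
        exact Transfer.centralizes_of_isPGroup_mulAut
          (Transfer.isPGroup_mulAut_of_isCyclic (S.2.to_le hR)) hy hco
      exact (Nat.not_even_iff_odd.2 hodd) (even_iff_two_dvd.2 (ht ▸ orderOf_dvd_natCard t))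
    · omega
  have hKtop : K ≠ ⊤ := fun h => by
    let eK : ↥K ≃* G := (MulEquiv.subgroupCongr h).trans Subgroup.topEquiv
    haveI : Nontrivial ↥K := eK.toEquiv.nontrivial
    haveI : IsSimpleGroup ↥K := IsSimpleGroup.isSimpleGroup_of_surjective eK.symm.toMonoidHom eK.symm.surjective
    haveI : Group.IsPerfect ↥K := Group.IsPerfect.ofSurjective (f := eK.symm.toMonoidHom) eK.symm.surjective
    have hcen : center ↥K = ⊥ := (IsSimpleGroup.eq_bot_or_eq_top_of_normal _ inferInstance).resolve_right
      fun hc => hna ⟨⟨fun a b => eK.symm.injective (by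
        rw [map_mul, map_mul]; exact (mem_center_iff.1 (hc ▸ mem_top (eK.symm b)) (eK.symm a)))⟩⟩
    haveI : Nontrivial (↥K ⧸ center ↥K) :=
      QuotientGroup.nontrivial_iff.2 (hcen.trans_ne bot_ne_top)
    have hqs : Cfsg.IsQuasisimple ↥K := ⟨inferInstance,
      IsSimpleGroup.isSimpleGroup_of_surjective (QuotientGroup.mk' (center ↥K))
        (QuotientGroup.mk'_surjective _)⟩
    have hF : Group.IsSolvable ↥(Cfsg.fittingSubgroup ↥K) := Components.fitting_isSolvable
    rw [← hK, Components.BBalance.genFitting_eq_top_of_isQuasisimple hqs] at hF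
    exact Components.IsQuasisimple.not_isSolvable hqs
      (Group.isSolvable_of_surjective (f := (Subgroup.topEquiv (G := ↥K)).toMonoidHom) (Subgroup.topEquiv (G := ↥K)).surjective)
  rcases hGW G inferInstance hna S m hm ⟨eS⟩ with ⟨F, hF1, hF2, hodd, ⟨g⟩⟩ | h
  swap
  · exact Or.inr (Or.inl h)
  rw [← Nat.card_eq_fintype_card] at hodd
  have h1 : 1 < Nat.card F := Finite.one_lt_card
  have hq : Nat.card F = 3 ∨ Nat.card F = 5 ∨ Nat.card F = 7 ∨ Nat.card F = 9 ∨ 9 < Nat.card F := by
    obtain ⟨j, hj⟩ := hodd; omega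
  have hcard := PSL2.card_psl_mul (F := F)
  rw [← Nat.card_congr g.toEquiv] at hcard
  rcases hq with h | h | h | h | h
  · exfalso
    rw [h] at hcard
    norm_num at hcard
    have hs : Group.IsSolvable G := CharApp.isSolvable_of_card_eq_prime_pow_mul 2 3 Nat.prime_two Nat.prime_three _ _ rfl 2 1
      (by omega)
    exact hna ⟨⟨IsSimpleGroup.comm_iff_isSolvable.2 hs⟩⟩
  · rw [h] at hcard
    norm_num at hcard
    exact Or.inl (S0494.result (by omega))
  · rw [h] at hcard
    norm_num at hcard
    haveI : IsSimpleGroup (Matrix.ProjectiveSpecialLinearGroup (Fin 3) (ZMod 2)) := S0249.result 3 le_rfl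
    have h168 : Nat.card (Matrix.ProjectiveSpecialLinearGroup (Fin 3) (ZMod 2)) = 168 := by
      have h := GLOrder.card_PSL_mul (ι := Fin 3) (F := ZMod 2)
      rw [GLOrder.card_SL] at h
      simp [Finset.prod_Ico_succ_top, Nat.card_eq_fintype_card] at h
      simpa using h
    have hF7 : Fintype.card F = 7 := by rw [← Nat.card_eq_fintype_card, h]
    obtain ⟨a⟩ := S0495.result (G := G) (by omega) hF7
    obtain ⟨b⟩ := S0495.result (G := Matrix.ProjectiveSpecialLinearGroup (Fin 3) (ZMod 2)) h168 hF7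
    exact Or.inr (Or.inr (Or.inl ⟨ZMod 2, inferInstance, inferInstance, ZMod.card 2, ⟨a.trans b.symm⟩⟩))
  · exact Or.inr (Or.inr (Or.inr ⟨F, hF1, hF2, by rw [← Nat.card_eq_fintype_card, h], ⟨g⟩⟩))
  · exfalso
    have hco := centralizer_isCoatom hodd h (t := g t) (by rw [MulEquiv.orderOf_eq]; exact ht)
    have himg : (centralizer ({t} : Set G)).map g.toMonoidHom = centralizer ({g t} : Set _) := by
      refine le_antisymm ?_ fun y hy => ⟨g.symm y, ?_, by simp⟩
      · rintro _ ⟨y, hy, rfl⟩
        simp only [SetLike.mem_coe, mem_centralizer_singleton_iff] at hy ⊢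
        simp only [MulEquiv.coe_toMonoidHom, ← map_mul, hy]
      · simp only [SetLike.mem_coe, mem_centralizer_singleton_iff] at hy ⊢
        exact g.injective (by simpa using hy)
    rw [← himg] at hco
    exact hKtop ((((g.mapSubgroup).isCoatom_iff _).1 hco).2 K hlt)

end Cfsg.Agent.GWReduce
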